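import Cfsg.Prelude.Def_SporCoxeter
import Mathlib.GroupTheory.PresentedGroup

/-!
A presentation on seven Schreier generators of the point stabiliser in the Mathieu group on 24 points,
with one auxiliary generator `a` that is a word in two of them.
-/

set_option autoImplicit false

namespace CfsgLib.FusionExamples.J4Sub.Stab

/-- The generators. -/
inductive Gen
  | g1
  | g5
  | g12
  | g15
  | g20
  | g22
  | g25
  | a
  deriving DecidableEq

/-- No Coxeter graph. -/
def edges : List (Gen × ℕ × Gen) := []

/-- The relators as words. -/
def extraL : List (List (Gen × Bool)) := [
  [(.g22, false), (.g22, false), (.g22, false)],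
  [(.g20, false), (.g20, false), (.g20, false)],
  [(.g15, false), (.g15, false), (.g15, false)],
  [(.g12, false), (.g12, false), (.g12, false)],
  [(.g5, false), (.g5, false), (.g5, false)],
  [(.g1, false), (.g1, false), (.g1, false)],
  [(.g22, false), (.g20, false), (.g22, true), (.g5, true)],
  [(.g25, false), (.g25, false), (.g22, false), (.g20, false), (.g15, true)],
  [(.g25, false), (.g25, false), (.g5, false), (.g22, false), (.g15, true)],
  [(.g22, false), (.g15, false), (.g1, true), (.g5, false), (.g20, false)],
  [(.g12, false), (.g1, true), (.g5, true), (.g1, true), (.g5, true)],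
  [(.g25, false), (.g12, false), (.g15, false), (.g12, true), (.g25, true), (.g22, true)],
  [(.g20, false), (.g1, false), (.g20, true), (.g1, false), (.g12, true), (.g1, true)],
  [(.g20, false), (.g1, false), (.g20, true), (.g5, true), (.g12, true), (.g5, false)],
  [(.g20, false), (.g15, true), (.g12, false), (.g15, true), (.g12, true), (.g15, false)],
  [(.g25, false), (.g25, false), (.g25, false), (.g22, false), (.g25, false), (.g5, true), (.g12, true)],
  [(.g25, false), (.g25, false), (.g25, false), (.g22, false), (.g15, true), (.g25, true), (.g22, false)],
  [(.g25, false), (.g25, false), (.g22, false), (.g15, true), (.g12, false), (.g15, false), (.g12, true)],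
  [(.g25, false), (.g22, true), (.g12, true), (.g15, true), (.g5, true), (.g20, true), (.g1, true)],
  [(.g20, false), (.g1, false), (.g20, true), (.g5, true), (.g1, true), (.g5, true), (.g1, true)],
  [(.g25, false), (.g25, false), (.g25, false), (.g5, false), (.g25, true), (.g25, true), (.g25, true), (.g22, true)],
  [(.g25, false), (.g25, false), (.g15, true), (.g12, true), (.g20, false), (.g1, false), (.g5, true), (.g22, true)],
  [(.g22, false), (.g5, false), (.g1, false), (.g5, true), (.g22, false), (.g5, false), (.g1, false), (.g5, true)],
  [(.g20, false), (.g12, false), (.g15, false), (.g12, true), (.g20, false), (.g12, false), (.g15, false), (.g12, true)],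
  [(.g20, false), (.g1, false), (.g12, false), (.g15, false), (.g20, false), (.g1, false), (.g12, false), (.g15, false)],
  [(.g20, false), (.g1, false), (.g20, true), (.g12, false), (.g20, false), (.g1, false), (.g20, true), (.g12, false)],
  [(.g25, false), (.g25, false), (.g25, false), (.g15, true), (.g12, false), (.g15, false), (.g25, true), (.g22, false), (.g5, false), (.g22, true)],
  [(.g25, false), (.g25, false), (.g22, false), (.g5, false), (.g20, false), (.g1, false), (.g5, true), (.g1, true), (.g20, true), (.g22, true)],
  [(.g25, false), (.g25, false), (.g15, false), (.g25, true), (.g25, true), (.g15, true), (.g12, true), (.g25, true), (.g25, true), (.g22, false)],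
  [(.g25, false), (.g25, false), (.g5, false), (.g1, true), (.g20, false), (.g1, false), (.g5, true), (.g12, false), (.g15, false), (.g22, true)],
  [(.g20, false), (.g1, true), (.g20, false), (.g1, true), (.g20, false), (.g1, true), (.g20, false), (.g1, true), (.g20, false), (.g1, true)],
  [(.g15, false), (.g12, true), (.g15, false), (.g12, true), (.g15, false), (.g12, true), (.g15, false), (.g12, true), (.g15, false), (.g12, true)],
  [(.g25, false), (.g25, false), (.g25, false), (.g25, false), (.g25, false), (.g25, false), (.g25, false), (.g25, false), (.g25, false), (.g25, false), (.g25, false), (.g25, false), (.g25, false), (.g25, false), (.g25, false), (.g25, false), (.g25, false), (.g25, false), (.g25, false), (.g25, false), (.g25, false), (.g25, false), (.g25, false)],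
  [(.g1, true), (.g12, false), (.g1, true), (.g12, false), (.g1, true), (.a, false)]]

/-- The relators. -/
def extra : List (FreeGroup Gen) := extraL.map FreeGroup.mk

/-- The relator set. -/
abbrev rels : Set (FreeGroup Gen) := Cfsg.Spor.coxRelators edges ∪ {r | r ∈ extra}

/-- The presented group. -/
abbrev P7 : Type := PresentedGroup rels

end CfsgLib.FusionExamples.J4Sub.Stab
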