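import Cfsg.Agent.Lib.FusionExamples.J4Sub.Defs
import Cfsg.Agent.Lib.FusionExamples.J4Sub.Defs7

/-! Schreier words and conjugacy certificates for the relators of the point stabiliser. -/

set_option autoImplicit false
set_option maxRecDepth 20000

namespace CfsgLib.FusionExamples.J4Sub

open Cfsg.Spor.J4 (Gen)

/-- Letters of normal forms in a free product of groups of order two and three. -/
inductive Ltr
  | x | y | Y
  deriving DecidableEq

/-- The seven relators as words. -/
def relL : List (List (Gen × Bool)) := [
  [(.x, true), (.x, true)],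
  [(.y, true), (.y, true), (.y, true)],
  [(.x, true), (.y, true), (.x, true), (.y, true), (.x, true), (.y, true), (.x, true), (.y, true), (.x, true), (.y, true), (.x, true), (.y, true), (.x, true), (.y, true), (.x, true), (.y, true), (.x, true), (.y, true), (.x, true), (.y, true), (.x, true), (.y, true), (.x, true), (.y, true), (.x, true), (.y, true), (.x, true), (.y, true), (.x, true), (.y, true), (.x, true), (.y, true), (.x, true), (.y, true), (.x, true), (.y, true), (.x, true), (.y, true), (.x, true), (.y, true), (.x, true), (.y, true), (.x, true), (.y, true), (.x, true), (.y, true)],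
  [(.x, false), (.y, false), (.x, true), (.y, true), (.x, false), (.y, false), (.x, true), (.y, true), (.x, false), (.y, false), (.x, true), (.y, true), (.x, false), (.y, false), (.x, true), (.y, true), (.x, false), (.y, false), (.x, true), (.y, true), (.x, false), (.y, false), (.x, true), (.y, true), (.x, false), (.y, false), (.x, true), (.y, true), (.x, false), (.y, false), (.x, true), (.y, true), (.x, false), (.y, false), (.x, true), (.y, true), (.x, false), (.y, false), (.x, true), (.y, true), (.x, false), (.y, false), (.x, true), (.y, true), (.x, false), (.y, false), (.x, true), (.y, true)],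
  [(.x, false), (.y, false), (.x, false), (.y, false), (.x, true), (.y, true), (.x, true), (.y, true), (.x, false), (.y, false), (.x, false), (.y, false), (.x, true), (.y, true), (.x, true), (.y, true), (.x, false), (.y, false), (.x, false), (.y, false), (.x, true), (.y, true), (.x, true), (.y, true), (.x, false), (.y, false), (.x, false), (.y, false), (.x, true), (.y, true), (.x, true), (.y, true), (.x, false), (.y, false), (.x, false), (.y, false), (.x, true), (.y, true), (.x, true), (.y, true)],
  [(.x, true), (.y, true), (.x, true), (.y, true), (.x, true), (.y, false), (.x, true), (.y, true), (.x, true), (.y, false), (.x, true), (.y, true), (.x, true), (.y, false), (.x, true), (.y, true), (.x, true), (.y, true), (.x, true), (.y, false), (.x, true), (.y, true), (.x, true), (.y, false), (.x, true), (.y, true), (.x, true), (.y, false), (.x, true), (.y, true), (.x, true), (.y, true), (.x, true), (.y, false), (.x, true), (.y, true), (.x, true), (.y, false), (.x, true), (.y, true), (.x, true), (.y, false), (.x, true), (.y, true), (.x, true), (.y, true), (.x, true),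 (.y, false), (.x, true), (.y, true), (.x, true), (.y, false), (.x, true), (.y, true), (.x, true), (.y, false)],
  [(.x, true), (.y, true), (.x, true), (.y, true), (.x, true), (.y, false), (.x, true), (.y, true), (.x, true), (.y, true), (.x, true), (.y, false), (.x, true), (.y, true), (.x, true), (.y, true), (.x, true), (.y, false), (.x, true), (.y, true), (.x, true), (.y, false), (.x, true), (.y, false), (.x, true), (.y, true), (.x, true), (.y, false), (.x, true), (.y, false), (.x, true), (.y, true), (.x, true), (.y, false), (.x, true), (.y, false)]]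

/-- The words of the stabiliser generators. -/
def stabWord : Stab.Gen → List (Gen × Bool)
  | .g1 => [(.y, true)]
  | .g5 => [(.x, true), (.y, true), (.x, true), (.y, false), (.x, true), (.y, true), (.x, false), (.y, true), (.x, false), (.y, false), (.x, false)]
  | .g12 => [(.x, true), (.y, true), (.x, true), (.y, true), (.x, true), (.y, false), (.x, true), (.y, true), (.x, true), (.y, true), (.x, false), (.y, false), (.x, false), (.y, true), (.x, false), (.y, false), (.x, false), (.y, false), (.x, false)]
  | .g15 => [(.x, true), (.y, true), (.x, true), (.y, true), (.x, true), (.y, false), (.x, true), (.y, false), (.x, true), (.y, true), (.x, false), (.y, true), (.x, false), (.y, true), (.x, false), (.y, false), (.x, false), (.y, false), (.x, false)]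
  | .g20 => [(.x, true), (.y, false), (.x, true), (.y, true), (.x, false), (.y, true), (.x, false)]
  | .g22 => [(.x, true), (.y, true), (.x, true), (.y, true), (.x, true), (.y, true), (.x, true), (.y, false), (.x, true), (.y, true), (.x, false), (.y, true), (.x, false), (.y, false), (.x, false), (.y, false), (.x, false), (.y, false), (.x, false)]
  | .g25 => [(.x, true), (.y, true), (.x, true), (.y, true), (.x, true), (.y, true), (.x, true), (.y, true), (.x, true), (.y, false), (.x, true), (.y, false), (.x, false), (.y, false), (.x, false), (.y, false), (.x, false), (.y, false), (.x, false), (.y, false), (.x, false)]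
  | .a => [(.y, true), (.x, true), (.y, true), (.x, true), (.y, true), (.x, true), (.y, false), (.x, true), (.y, true), (.x, true), (.y, false), (.x, false), (.y, false), (.x, false), (.y, true), (.x, false), (.y, false), (.x, false), (.y, false), (.x, false), (.y, true), (.x, true), (.y, true), (.x, true), (.y, true), (.x, true), (.y, false), (.x, true), (.y, true), (.x, true), (.y, false), (.x, false), (.y, false), (.x, false), (.y, true), (.x, false), (.y, false), (.x, false), (.y, false), (.x, false), (.y, true)]

/-- For each relator: nothing, or a relator index, a sign and a conjugating word. -/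
def certL : List (Option (ℕ × Bool × List Ltr)) := [
  none,
  none,
  none,
  none,
  none,
  none,
  some (6, true, [.x, .y, .x, .Y, .x, .Y, .x, .Y, .x, .y, .x, .Y, .x, .Y, .x, .y, .x, .Y, .x, .Y, .x]),
  some (6, true, [.x, .y, .x, .y, .x, .Y, .x, .Y, .x, .Y, .x]),
  some (6, true, [.x, .y, .x, .y, .x, .Y, .x, .Y, .x, .Y, .x, .y, .x, .Y, .x, .Y, .x]),
  some (4, true, [.x, .Y, .x, .y, .x]),
  some (6, true, [.x, .y, .x, .Y, .x, .Y, .x, .y, .x, .Y, .x, .Y, .x, .y, .x, .Y, .x, .Y, .x, .y, .x, .Y, .x, .Y, .x]),
  some (6, true, [.x, .y, .x, .y, .x, .y, .x, .Y, .x, .Y, .x, .Y, .x]),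
  some (6, true, [.Y, .x, .y, .x, .y, .x, .Y, .x, .y, .x, .Y, .x, .Y, .x, .y, .x, .Y, .x, .Y, .x, .y, .x, .Y, .x, .Y, .x]),
  some (6, true, [.x, .y, .x, .Y, .x, .y, .x, .Y, .x, .Y, .x, .y, .x, .Y, .x, .Y, .x]),
  some (6, true, [.x, .y, .x, .y, .x, .Y, .x, .Y, .x, .y, .x, .Y, .x, .Y, .x, .y, .x, .Y, .x, .Y, .x]),
  some (4, true, [.x, .y, .x, .y, .x, .Y, .x, .y, .x]),
  some (6, true, [.x, .y, .x, .y, .x, .y, .x, .Y, .x, .y, .x, .Y, .x, .y, .x, .y, .x, .Y, .x, .y, .x, .Y, .x, .Y, .x, .y, .x, .Y, .x, .Y, .x, .y, .x, .Y, .x, .Y, .x]),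
  some (6, true, [.x, .y, .x, .y, .x, .y]),
  some (2, true, []),
  some (6, true, [.Y, .x, .y, .x, .Y, .x, .Y, .x, .y, .x, .Y, .x, .Y, .x, .y, .x, .Y, .x, .Y, .x]),
  some (6, true, [.x, .y, .x, .y, .x, .y, .x, .Y, .x, .Y, .x, .Y, .x, .y, .x, .Y, .x, .Y, .x, .y, .x, .Y, .x, .Y, .x]),
  some (3, true, [.x, .y, .x, .y, .x, .y, .x, .Y, .x]),
  some (5, false, [.x, .y, .x, .Y, .x, .Y, .x, .y, .x, .Y]),
  some (5, false, [.x, .y, .x, .y, .x, .Y, .x, .y, .x, .Y]),
  some (5, true, [.x, .y, .x, .y, .x, .Y, .x, .Y, .x]),
  some (5, false, [.x, .y, .x, .y, .x, .Y]),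
  some (5, false, [.x, .y, .x, .y, .x, .y, .x, .Y, .x, .Y, .x, .y, .x, .Y]),
  some (5, true, [.x, .y, .x, .y, .x, .y, .x, .Y, .x, .Y, .x, .y, .x, .Y, .x, .Y, .x]),
  some (5, false, [.x, .y, .x, .y, .x, .y, .x, .Y, .x, .y, .x, .Y, .x, .y, .x, .Y, .x, .y, .x, .Y]),
  some (5, false, [.x, .y, .x, .y, .x, .y, .x, .Y, .x, .Y]),
  some (4, true, []),
  some (4, true, [.x, .y, .x, .y, .x, .Y, .x, .Y]),
  some (2, false, [.x, .y, .x, .y, .x, .y, .x, .y, .x, .Y]),
  none]

end CfsgLib.FusionExamples.J4Sub
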